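import Groth.Prelude.Def_AlgSpModX
import Groth.Prelude.Def_FlatCA
import Groth.Agent.Lib.AlgSpEt14.Basic
import Groth.Agent.S9582

/-!
# Weakly associated points of modules on the small étale site
-/

universe u

set_option backward.isDefEq.respectTransparency false

open CategoryTheory CategoryTheory.Limits AlgebraicGeometry Opposite

namespace Groth.Agent.WeakAssEt15

open AlgSp Groth.Agent.AlgSpEt Groth.Agent.AlgSpace

variable {S : Scheme.{u}} {X : Sp S}

instance (E : (EtOver X)ᵒᵖ) : (SheafOfModules.evaluation.{u + 1} (OEtRing X) E).PreservesZeroMorphisms :=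
  inferInstanceAs ((SheafOfModules.forget _ ⋙ PresheafOfModules.evaluation _ E).PreservesZeroMorphisms)

noncomputable instance (E : (EtOver X)ᵒᵖ) :
    PreservesFiniteLimits (SheafOfModules.evaluation.{u + 1} (OEtRing X) E) :=
  inferInstanceAs (PreservesFiniteLimits (SheafOfModules.forget _ ⋙ PresheafOfModules.evaluation _ E))

theorem primeAtPt_eq {U : Scheme.{u}} [IsAffine U] (u : U) :
    primeAtPt U u = ((isAffineOpen_top U).primeIdealOf ⟨u, trivial⟩).asIdeal := by
  rw [IsAffineOpen.primeIdealOf_eq_map_closedPoint]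
  rfl

theorem exists_point_of_prime {U : Scheme.{u}} [IsAffine U] (p : Ideal Γ(U, ⊤)) (hp : p.IsPrime) :
    ∃ u : U, primeAtPt U u = p := by
  have hU := isAffineOpen_top U
  refine ⟨hU.fromSpec ⟨p, hp⟩, ?_⟩
  ext a
  rw [primeAtPt, Ideal.mem_comap, IsLocalRing.mem_maximalIdeal, mem_nonunits_iff]
  have h1 : hU.fromSpec ⟨p, hp⟩ ∈ U.basicOpen a ↔ a ∉ p := by
    change (⟨p, hp⟩ : PrimeSpectrum Γ(U, ⊤)) ∈ hU.fromSpec ⁻¹ᵁ U.basicOpen a ↔ _
    rw [hU.fromSpec_preimage_basicOpen]
    rfl
  change ¬ IsUnit (U.presheaf.germ ⊤ _ trivial a) ↔ _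
  rw [← U.mem_basicOpen a _ trivial, h1, not_not]

theorem primeAtPt_injective {U : Scheme.{u}} [IsAffine U] : Function.Injective (primeAtPt U) := by
  intro u v h
  rw [primeAtPt_eq, primeAtPt_eq] at h
  have := congrArg (isAffineOpen_top U).fromSpec (PrimeSpectrum.ext h)
  rwa [IsAffineOpen.fromSpec_primeIdealOf, IsAffineOpen.fromSpec_primeIdealOf] at this

theorem primeAtPt_comap {U V : Scheme.{u}} (f : U ⟶ V) (u : U) :
    (primeAtPt U u).comap f.appTop.hom = primeAtPt V (f u) := by
  ext a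
  simp only [primeAtPt, Ideal.mem_comap, IsLocalRing.mem_maximalIdeal, mem_nonunits_iff, not_iff_not]
  change IsUnit (U.presheaf.germ (f ⁻¹ᵁ ⊤) u trivial (f.app ⊤ a)) ↔ _
  rw [← Scheme.Hom.germ_stalkMap_apply]
  exact isUnit_map_iff (f.stalkMap u).hom _

/-- The annihilator of a unit section is trivial unless the section is zero. -/
theorem annSect_eq_top_iff {M : ModEt X} {E : EtOver X} (s : sectModEt M E) : annSect s = ⊤ ↔ s = 0 := by
  rw [Ideal.eq_top_iff_one, mem_annSect_iff, map_one, one_smul]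

/-- A nonzero section over an affine object gives a weakly associated point. -/
theorem exists_weakAss_of_ne_zero {M : ModEt X} {E : EtOver X} [IsAffine E.obj.left.left]
    (s : sectModEt M E) (hs : s ≠ 0) : (WeakAssEt M).Nonempty := by
  obtain ⟨m, hm, hle⟩ := Ideal.exists_le_maximal _ (mt (annSect_eq_top_iff s).1 hs)
  have := hm.isPrime
  obtain ⟨p, hp, -⟩ := Ideal.exists_minimalPrimes_le hle
  obtain ⟨u, hu⟩ := exists_point_of_prime p hp.1.1
  exact ⟨_, E, ‹_›, u, rfl, s, hu.symm ▸ hp⟩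

/-- A module is zero exactly when it has no weakly associated point. -/
theorem isZero_iff (M : ModEt X) : IsZero M ↔ WeakAssEt M = ∅ := by
  constructor
  · intro h
    refine Set.eq_empty_of_forall_notMem fun x ⟨E, _, u, _, s, hs⟩ => ?_
    have : Subsingleton (sectModEt M E) := ModuleCat.subsingleton_of_isZero
      (Functor.map_isZero (SheafOfModules.evaluation.{u + 1} (OEtRing X) (op E)) h)
    rw [(annSect_eq_top_iff s).2 (Subsingleton.elim _ _), Ideal.minimalPrimes_top] at hs
    exact hs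
  · intro h
    have haff : ∀ (E : EtOver X) [IsAffine E.obj.left.left] (s : sectModEt M E), s = 0 := fun E _ s => by
      by_contra hs
      exact (exists_weakAss_of_ne_zero s hs).ne_empty h
    have hall : ∀ (E : EtOver X) (s : sectModEt M E), s = 0 := fun E s => by
      refine section_ext ((SheafOfModules.toSheaf.{u + 1} (OEtRing X)).obj M)
        (Sieve.ofArrows (fun V : E.obj.left.left.affineOpens => AlgSpEt14.openSub E V.1)
          fun V => AlgSpEt14.openSubι E V.1)
        (ofArrows_mem_etTop _ _ fun x => ?_) fun Y f hf => ?_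
      · obtain ⟨V, hV, hx, -⟩ :=
          E.obj.left.left.isBasis_affineOpens.exists_subset_of_mem_open (Set.mem_univ x) isOpen_univ
        obtain ⟨V, hV', rfl⟩ := hV
        exact ⟨⟨V, hV'⟩, (AlgSpEt14.range_openSubι E V).ge hx⟩
      · obtain ⟨Z, k, m, ⟨V⟩, rfl⟩ := hf
        have : IsAffine (AlgSpEt14.openSub E V.1).obj.left.left := V.2
        change M.val.map (k ≫ AlgSpEt14.openSubι E V.1).op s = M.val.map (k ≫ AlgSpEt14.openSubι E V.1).op 0
        rw [map_zero, op_comp, PresheafOfModules.map_comp_apply,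
          show M.val.map (AlgSpEt14.openSubι E V.1).op s = 0 from haff (AlgSpEt14.openSub E V.1) _, map_zero]
    rw [IsZero.iff_id_eq_zero]
    apply SheafOfModules.hom_ext
    ext E s
    exact hall E.unop s

/-- Weakly associated points in a short exact sequence. -/
theorem weakAss_of_shortExact (C : ShortComplex (ModEt X)) (hC : C.ShortExact) :
    WeakAssEt C.X₂ ⊆ WeakAssEt C.X₁ ∪ WeakAssEt C.X₃ ∧ WeakAssEt C.X₁ ⊆ WeakAssEt C.X₂ := by
  have := hC.mono_f
  have hinj : ∀ E : EtOver X, Function.Injective (C.f.val.app (op E)) := fun E =>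
    (ModuleCat.mono_iff_injective _).1
      (inferInstanceAs (Mono ((SheafOfModules.evaluation.{u + 1} (OEtRing X) (op E)).map C.f)))
  have hex : ∀ (E : EtOver X) (s : sectModEt C.X₂ E), C.g.val.app (op E) s = 0 →
      ∃ s₁, C.f.val.app (op E) s₁ = s := fun E s hs => by
    have h := hC.exact.map_of_mono_of_preservesKernel (SheafOfModules.evaluation.{u + 1} (OEtRing X) (op E))
      hC.mono_f inferInstance
    exact (ShortComplex.moduleCat_exact_iff _).1 h s hs
  have hann : ∀ (E : EtOver X) (s : sectModEt C.X₁ E) (a : Γ(E.obj.left.left, ⊤)),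
      a ∈ annSect s ↔ a ∈ annSect (M := C.X₂) (C.f.val.app (op E) s) := fun E s a => by
    rw [mem_annSect_iff, mem_annSect_iff, ← map_smul, map_eq_zero_iff _ (hinj E)]
  constructor
  · rintro x ⟨E, hE, u, hx, s, hs⟩
    by_cases ht : annSect (M := C.X₃) (C.g.val.app (op E) s) ≤ primeAtPt _ u
    · refine Or.inr ⟨E, hE, u, hx, _, ⟨⟨inferInstance, ht⟩, fun q hq hqu => hs.2 ⟨hq.1, ?_⟩ hqu⟩⟩
      refine le_trans (fun a ha => ?_) hq.2
      rw [mem_annSect_iff, ← map_smul, (mem_annSect_iff s a).1 ha, map_zero]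
    · obtain ⟨a, ha, hau⟩ := SetLike.not_le_iff_exists.1 ht
      obtain ⟨s₁, hs₁⟩ := hex E (upΓ E a • s) (by rw [map_smul]; exact ha)
      have h1 : ∀ b, b ∈ annSect s₁ ↔ b * a ∈ annSect s := fun b => by
        rw [hann, hs₁, mem_annSect_iff, mem_annSect_iff, map_mul, mul_smul]
      refine Or.inl ⟨E, hE, u, hx, s₁, ⟨⟨inferInstance, fun b hb => ?_⟩, fun q hq hqu => hs.2 ⟨hq.1, ?_⟩ hqu⟩⟩
      · exact ((isPrime_primeAtPt _ u).mem_or_mem (hs.1.2 ((h1 b).1 hb))).resolve_right hau
      · exact le_trans (fun b hb => (h1 b).2 ((annSect s).mul_mem_right a hb)) hq.2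
  · rintro x ⟨E, hE, u, hx, s, hs⟩
    refine ⟨E, hE, u, hx, C.f.val.app (op E) s, ?_⟩
    rwa [← show annSect s = annSect (M := C.X₂) (C.f.val.app (op E) s) from Ideal.ext (hann E s)]

/-- Weakly associated points of a direct image along an affine morphism. -/
theorem weakAss_push_subset {Y : Sp S} {f : X ⟶ Y} (hf : Representable f) (haff : IsAffineMor f) (M : ModEt X) :
    WeakAssEt ((pushModEt hf).obj M) ⊆ Points.map f '' WeakAssEt M := by
  rintro y ⟨E, hE, v, rfl, s, hs⟩
  let B : EtOver X := EtOver.bcObj hf E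
  obtain ⟨W, i, fst, sq, hW⟩ := haff hE E.obj.hom
  have hB : IsAffine B.obj.left.left := by
    have e : B.obj.left ≅ W := (yon S).preimageIso ((EtOver.isPullback_bcObj hf E).isoIsPullback _ _ sq)
    have : IsAffine ((Over.forget S).obj W) := hW
    exact IsAffine.of_isIso ((Over.forget S).map e.hom)
  have hs' : primeAtPt E.obj.left.left v ∈ (((annSect (M := M) (E := B) s)).comap
      (EtOver.bcπ hf E).left.appTop.hom).minimalPrimes := hs
  obtain ⟨q, hq, hqv⟩ := Ideal.exists_minimalPrimes_comap_eq _ _ hs'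
  obtain ⟨w, hw⟩ := exists_point_of_prime (U := B.obj.left.left) q hq.1.1
  refine ⟨Points.ofPt B.obj.hom w, ⟨B, hB, w, rfl, s, hw.symm ▸ hq⟩, ?_⟩
  have hv : (EtOver.bcπ hf E).left w = v := primeAtPt_injective (by
    rw [← primeAtPt_comap, hw]
    exact hqv)
  rw [Points.map_ofPt, (EtOver.isPullback_bcObj hf E).w, AlgSpDecent.ofPt_map_comp, hv]

/-- Weakly associated points of a reduced space. -/
theorem mem_weakAss_unit_iff (hX : IsReducedSp X) (x : Points X) :
    x ∈ WeakAssEt (unitModEt X) ↔ HasAt (fun U u => ringKrullDim ↥(U.presheaf.stalk u) = 0) X x := by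
  have key : ∀ (E : EtOver X) [IsAffine E.obj.left.left] (u : E.obj.left.left),
      IsWeakAssOn (unitModEt X) E u ↔ ringKrullDim ↥(E.obj.left.left.presheaf.stalk u) = 0 := by
    intro E _ u
    have : IsReduced E.obj.left.left :=
      AlgSpDescent.prop_of_etale_chart AlgSpDescent.isReduced_up AlgSpDescent.isReduced_down hX E.property
    have hA : _root_.IsReduced Γ(E.obj.left.left, ⊤) := inferInstance
    have hloc := (isAffineOpen_top E.obj.left.left).isLocalization_stalk ⟨u, trivial⟩
    letI := TopCat.Presheaf.algebra_section_stalk E.obj.left.left.presheaf (⟨u, trivial⟩ : (⊤ : E.obj.left.left.Opens))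
    rw [@IsLocalization.AtPrime.ringKrullDim_eq_height _ _ _ _ _ _ _ hloc]
    rw [← primeAtPt_eq, WithBot.coe_eq_zero, Ideal.height_eq_zero_iff,
      ← Groth.Agent.S9582.result (R := Γ(E.obj.left.left, ⊤))]
    have hann : ∀ z : Γ(E.obj.left.left, ⊤),
        annSect (M := unitModEt X) (E := E) (upΓ E z) = (Submodule.span Γ(E.obj.left.left, ⊤) {z}).annihilator := by
      intro z
      ext a
      rw [mem_annSect_iff, Submodule.mem_annihilator_span_singleton, smul_eq_mul]
      change upΓ E a * upΓ E z = 0 ↔ _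
      rw [← map_mul]
      exact map_eq_zero_iff (upΓ E) ULift.ringEquiv.symm.injective
    constructor
    · rintro ⟨s, hs⟩
      refine ⟨ULift.down s, ?_⟩
      have := hann (ULift.down s)
      exact this ▸ hs
    · rintro ⟨z, hz⟩
      exact ⟨upΓ E z, (hann z).symm ▸ hz⟩
  constructor
  · rintro ⟨E, hE, u, hx, h⟩
    exact ⟨E.obj.left, E.obj.hom, u, E.property, hx, (key E u).1 h⟩
  · rintro ⟨U, a, u, ha, hx, h⟩
    obtain ⟨V, hV, hu, -⟩ := U.left.isBasis_affineOpens.exists_subset_of_mem_open (Set.mem_univ u) isOpen_univ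
    obtain ⟨V, hV', rfl⟩ := hV
    let E' := AlgSpEt14.openSub (EtOver.mk a ha) V
    have : IsAffine E'.obj.left.left := hV'
    refine ⟨E', ‹_›, ⟨u, hu⟩, ?_, (key E' _).2 ?_⟩
    · rw [AlgSpEt14.ofPt_openSub]
      exact hx
    · exact (ringKrullDim_eq_of_ringEquiv ((Scheme.Opens.stalkIso V ⟨u, hu⟩).commRingCatIsoToRingEquiv)).trans h

end Groth.Agent.WeakAssEt15
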